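import Cfsg.Agent.H335.FT.PsAll
import Cfsg.Agent.H335.TC6.Def

/-!
# S2464, `F₄(2)`: the cosets of the six words without fixed vector (helper555)

* `layer` : one layer `Q / Z` of the radical;
* **`cov6`** : the coset of `Q` of each of the six words is covered by the conjugates of the complement words.
-/

set_option autoImplicit false
set_option maxRecDepth 100000

namespace Cfsg.Agent.H555.TC6

open scoped commutatorElement
open Cfsg.Agent.ChevalleyStructure.Tits.Pack Cfsg.Agent.H335.FT
open Cfsg.Agent.FourTwo.Par (RG)
open Cfsg.Agent.FourTwo.Base (LL)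

/-! ### one layer -/

/-- equality modulo `Z` -/
def R (Q Z : Subgroup GF) (a b : GF) : Prop := a ∈ Q ∧ b ∈ Q ∧ ∃ z ∈ Z, a = b * z

section

variable {Q Z : Subgroup GF} (h : QZ Q Z)

include h

theorem comz {z x : GF} (hz : z ∈ Z) (hx : x ∈ Q) : x * z = z * x := by
  have h1 := h.cent z hz x hx
  calc x * z = (x * z * x⁻¹) * x := by group
    _ = z * x := by rw [h1]

theorem R.refl {a : GF} (ha : a ∈ Q) : R Q Z a a := ⟨ha, ha, 1, one_mem _, (mul_one a).symm⟩

theorem R.symm {a b : GF} (hr : R Q Z a b) : R Q Z b a := by
  obtain ⟨h1, h2, z, hz, e⟩ := hr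
  exact ⟨h2, h1, z⁻¹, inv_mem hz, by rw [e]; group⟩

theorem R.trans {a b c : GF} (h1 : R Q Z a b) (h2 : R Q Z b c) : R Q Z a c := by
  obtain ⟨a1, -, z, hz, e⟩ := h1
  obtain ⟨-, b2, z', hz', e'⟩ := h2
  exact ⟨a1, b2, z' * z, mul_mem hz' hz, by rw [e, e', mul_assoc]⟩

theorem R.mul {a b a' b' : GF} (h1 : R Q Z a b) (h2 : R Q Z a' b') : R Q Z (a * a') (b * b') := by
  obtain ⟨a1, b1, z, hz, e⟩ := h1
  obtain ⟨a2, b2, z', hz', e'⟩ := h2
  refine ⟨mul_mem a1 a2, mul_mem b1 b2, z * z', mul_mem hz hz', ?_⟩
  rw [e, e']
  calc b * z * (b' * z') = b * (z * b') * z' := by group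
    _ = b * (b' * z) * z' := by rw [comz h hz b2]
    _ = b * b' * (z * z') := by group

theorem R.comm {a b : GF} (ha : a ∈ Q) (hb : b ∈ Q) : R Q Z (a * b) (b * a) := by
  refine ⟨mul_mem ha hb, mul_mem hb ha, ⁅a, b⁆, h.comm a ha b hb, ?_⟩
  rw [comz h (h.comm a ha b hb) (mul_mem hb ha), commutatorElement_def]
  group

theorem R.of_z {a z : GF} (ha : a ∈ Q) (hz : z ∈ Z) : R Q Z (a * z) a := ⟨mul_mem ha (h.le hz), ha, z, hz, rfl⟩

theorem wd_mem {cl : List ℕ} (hcl : ∀ r ∈ cl, gx r ∈ Q) {c : List ℕ} (hc : ∀ r ∈ c, r ∈ cl) : wd c ∈ Q := by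
  induction c with
  | nil => rw [wd_nil]; exact one_mem _
  | cons r c ih =>
    rw [wd_cons]
    exact mul_mem (hcl r (hc r List.mem_cons_self)) (ih fun s hs => hc s (List.mem_cons_of_mem _ hs))

/-- a letter times a word of the complement -/
theorem toggle {cl : List ℕ} (hcl : ∀ r ∈ cl, gx r ∈ Q) {r : ℕ} (hr : r ∈ cl) {c : List ℕ} (hc : c.Sublist cl) :
    ∃ c' : List ℕ, c'.Sublist cl ∧ R Q Z (gx r * wd c) (wd c') := by
  induction cl generalizing c with
  | nil => exact absurd hr List.not_mem_nil
  | cons s cl ih =>
    have hcl' : ∀ r ∈ cl, gx r ∈ Q := fun r hr => hcl r (List.mem_cons_of_mem _ hr)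
    have hs : gx s ∈ Q := hcl s List.mem_cons_self
    cases hc with
    | cons _ hc =>
      rcases List.mem_cons.1 hr with rfl | hr
      · refine ⟨r :: c, hc.cons_cons r, ?_⟩
        rw [wd_cons]
        exact R.refl h (mul_mem hs (wd_mem h hcl' fun r hr => hc.subset hr))
      · obtain ⟨c', h1, h2⟩ := ih hcl' hr hc
        exact ⟨c', h1.cons s, h2⟩
    | @cons_cons c _ _ hc =>
      have hcQ : wd c ∈ Q := wd_mem h hcl' fun r hr => hc.subset hr
      rcases List.mem_cons.1 hr with rfl | hr
      · refine ⟨c, hc.cons r, ?_⟩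
        rw [wd_cons, ← mul_assoc, gx_mul_self, one_mul]
        exact R.refl h hcQ
      · obtain ⟨c', h1, h2⟩ := ih hcl' hr hc
        refine ⟨s :: c', h1.cons_cons s, ?_⟩
        have hrQ := hcl' r hr
        have k1 : R Q Z (gx r * gx s * wd c) (gx s * gx r * wd c) := (R.comm h hrQ hs).mul h (R.refl h hcQ)
        have k2 : R Q Z (gx s * (gx r * wd c)) (gx s * wd c') := (R.refl h hs).mul h h2
        rw [wd_cons, wd_cons, ← mul_assoc]
        rw [← mul_assoc] at k2
        exact k1.trans h k2

theorem toggles {cl : List ℕ} (hcl : ∀ r ∈ cl, gx r ∈ Q) {c0 : List ℕ} (hc0 : ∀ r ∈ c0, r ∈ cl) {c : List ℕ}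
    (hc : c.Sublist cl) : ∃ c' : List ℕ, c'.Sublist cl ∧ R Q Z (wd c0 * wd c) (wd c') := by
  induction c0 with
  | nil =>
    refine ⟨c, hc, ?_⟩
    rw [wd_nil, one_mul]
    exact R.refl h (wd_mem h hcl fun r hr => hc.subset hr)
  | cons r c0 ih =>
    obtain ⟨c1, h1, h2⟩ := ih fun s hs => hc0 s (List.mem_cons_of_mem _ hs)
    obtain ⟨c2, h3, h4⟩ := toggle h hcl (hc0 r List.mem_cons_self) h1
    refine ⟨c2, h3, ?_⟩
    rw [wd_cons, mul_assoc]
    exact ((R.refl h (hcl r (hc0 r List.mem_cons_self))).mul h h2).trans h h4

/-- **One layer.** -/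
theorem layer {u : GF} (hu : Nz Q Z u) {Ql cl : List ℕ} (hQ : Cl Ql = Q) (hcl : ∀ r ∈ cl, gx r ∈ Q)
    (hc : ∀ r ∈ Ql, gx r ∈ Z ∨ ∃ p ∈ Q, ∃ c : List ℕ, (∀ s ∈ c, s ∈ cl) ∧ ∃ z ∈ Z,
      u⁻¹ * p * u * p⁻¹ = gx r * wd c * z) {q : GF} (hq : q ∈ Q) :
    ∃ y ∈ Q, ∃ c : List ℕ, c.Sublist cl ∧ ∃ z ∈ Z, y * (u * q) * y⁻¹ = u * wd c * z := by
  have hin : ∀ y ∈ Q, u⁻¹ * y * u * y⁻¹ ∈ Q := fun y hy => mul_mem (hu.q' y hy) (inv_mem hy)
  have key : ∀ q ∈ Q, ∃ y ∈ Q, ∃ c : List ℕ, c.Sublist cl ∧ R Q Z (u⁻¹ * y * u * y⁻¹ * q) (wd c) := by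
    have step : ∀ r ∈ Ql, ∀ q ∈ Q, (∃ y ∈ Q, ∃ c : List ℕ, c.Sublist cl ∧ R Q Z (u⁻¹ * y * u * y⁻¹ * q) (wd c)) →
        ∃ y ∈ Q, ∃ c : List ℕ, c.Sublist cl ∧ R Q Z (u⁻¹ * y * u * y⁻¹ * (gx r * q)) (wd c) := by
      rintro r hr q hq ⟨y, hy, c, h1, h2⟩
      have hrQ : gx r ∈ Q := by rw [← hQ]; exact gx_mem_Cl hr
      rcases hc r hr with h3 | ⟨p, hp, c0, h3, z, hz, e⟩
      · refine ⟨y, hy, c, h1, ?_⟩
        have k1 : R Q Z (gx r * q) q := by
          rw [← comz h h3 hq]
          exact R.of_z h hq h3
        exact ((R.refl h (hin y hy)).mul h k1).trans h h2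
      · have hc0 : wd c0 ∈ Q := wd_mem h hcl h3
        obtain ⟨c', h4, h5⟩ := toggles h hcl h3 h1
        refine ⟨p * y, mul_mem hp hy, c', h4, ?_⟩
        -- the commutator of a product
        have e1 : u⁻¹ * (p * y) * u * (p * y)⁻¹ = (u⁻¹ * p * u * p⁻¹) * (p * (u⁻¹ * y * u * y⁻¹) * p⁻¹) := by group
        have k1 : R Q Z (p * (u⁻¹ * y * u * y⁻¹) * p⁻¹) (u⁻¹ * y * u * y⁻¹) := by
          have := (R.comm h hp (hin y hy)).mul h (R.refl h (inv_mem hp))
          rwa [mul_assoc (u⁻¹ * y * u * y⁻¹) p p⁻¹, mul_inv_cancel, mul_one] at this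
        have k2 : R Q Z (u⁻¹ * p * u * p⁻¹) (gx r * wd c0) := by
          rw [e]
          exact R.of_z h (mul_mem hrQ hc0) hz
        have k3 : R Q Z (u⁻¹ * (p * y) * u * (p * y)⁻¹ * (gx r * q))
            (gx r * wd c0 * (u⁻¹ * y * u * y⁻¹) * (gx r * q)) := by
          rw [e1]
          exact (k2.mul h k1).mul h (R.refl h (mul_mem hrQ hq))
        have k4 : R Q Z (gx r * wd c0 * (u⁻¹ * y * u * y⁻¹) * (gx r * q))
            (wd c0 * (u⁻¹ * y * u * y⁻¹) * gx r * (gx r * q)) := by
          rw [mul_assoc (gx r) (wd c0)]
          exact (R.comm h hrQ (mul_mem hc0 (hin y hy))).mul h (R.refl h (mul_mem hrQ hq))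
        have e2 : wd c0 * (u⁻¹ * y * u * y⁻¹) * gx r * (gx r * q) = wd c0 * (u⁻¹ * y * u * y⁻¹ * q) := by
          rw [show wd c0 * (u⁻¹ * y * u * y⁻¹) * gx r * (gx r * q) =
            wd c0 * (u⁻¹ * y * u * y⁻¹) * (gx r * gx r) * q by simp only [mul_assoc], gx_mul_self]
          simp only [mul_assoc, one_mul]
        rw [e2] at k4
        exact (k3.trans h k4).trans h (((R.refl h hc0).mul h h2).trans h h5)
    intro q hq
    rw [← hQ] at hq
    have hind : ∀ q ∈ Cl Ql, q ∈ Q ∧ ∃ y ∈ Q, ∃ c : List ℕ, c.Sublist cl ∧
        R Q Z (u⁻¹ * y * u * y⁻¹ * q) (wd c) := by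
      intro q hq
      unfold Cl at hq
      induction hq using Subgroup.closure_induction_left with
      | one =>
        refine ⟨one_mem _, 1, one_mem _, [], List.nil_sublist _, ?_⟩
        have e : u⁻¹ * 1 * u * 1⁻¹ * 1 = 1 := by group
        rw [e, wd_nil]
        exact R.refl h (one_mem _)
      | mul_left x hx y hy ih =>
        obtain ⟨r, hr, rfl⟩ := hx
        have hrQ : gx r ∈ Q := by rw [← hQ]; exact gx_mem_Cl hr
        exact ⟨mul_mem hrQ ih.1, step r hr y ih.1 ih.2⟩
      | inv_mul_cancel x hx y hy ih =>
        obtain ⟨r, hr, rfl⟩ := hx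
        have hrQ : gx r ∈ Q := by rw [← hQ]; exact gx_mem_Cl hr
        rw [gx_inv]
        exact ⟨mul_mem hrQ ih.1, step r hr y ih.1 ih.2⟩
    exact (hind q hq).2
  obtain ⟨y, hy, c, h1, h2⟩ := key q hq
  refine ⟨y, hy, c, h1, ?_⟩
  have k1 : R Q Z (u⁻¹ * y * u * y⁻¹ * (y * q * y⁻¹)) (u⁻¹ * y * u * y⁻¹ * q) := by
    refine (R.refl h (hin y hy)).mul h ?_
    have := (R.comm h hy hq).mul h (R.refl h (inv_mem hy))
    rwa [mul_assoc q y y⁻¹, mul_inv_cancel, mul_one] at this
  obtain ⟨-, -, z, hz, e⟩ := k1.trans h h2
  refine ⟨z, hz, ?_⟩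
  rw [mul_assoc u, ← e]
  group

/-- **Two layers.** -/
theorem two {u : GF} (hu : Nz Q Z u) {Ql Zl cv cz : List ℕ} (hQ : Cl Ql = Q) (hZ : Cl Zl = Z)
    (hcv : ∀ r ∈ cv, gx r ∈ Q) (hcz : ∀ r ∈ cz, gx r ∈ Z)
    (h1 : ∀ r ∈ Ql, gx r ∈ Z ∨ ∃ p ∈ Q, ∃ c : List ℕ, (∀ s ∈ c, s ∈ cv) ∧ ∃ z ∈ Z,
      u⁻¹ * p * u * p⁻¹ = gx r * wd c * z)
    (h2 : ∀ r ∈ Zl, ∃ p ∈ Z, ∃ c : List ℕ, (∀ s ∈ c, s ∈ cz) ∧ u⁻¹ * p * u * p⁻¹ = gx r * wd c)
    {q : GF} (hq : q ∈ Q) :
    ∃ y ∈ Q, ∃ c : List ℕ, c.Sublist (cv ++ cz) ∧ y * (u * q) * y⁻¹ = u * wd c := by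
  obtain ⟨y1, hy1, c1, hc1, z, hz, e1⟩ := layer h hu hQ hcv h1 hq
  have hc1Q : wd c1 ∈ Q := wd_mem h hcv fun r hr => hc1.subset hr
  have h' : QZ Z ⊥ := ⟨bot_le, fun z hz x _ => by rw [Subgroup.mem_bot.1 hz]; group, fun x hx y hy => by
    rw [Subgroup.mem_bot, commutatorElement_def, comz h hy (h.le hx)]; group⟩
  have hu' : Nz Z ⊥ (u * wd c1) := by
    refine ⟨fun x hx => ?_, fun x hx => ?_, fun x hx => ?_, fun x hx => ?_⟩
    · have e : u * wd c1 * x * (u * wd c1)⁻¹ = u * (wd c1 * x * (wd c1)⁻¹) * u⁻¹ := by group
      rw [e, h.cent x hx _ hc1Q]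
      exact hu.z x hx
    · have e : (u * wd c1)⁻¹ * x * (u * wd c1) = (wd c1)⁻¹ * (u⁻¹ * x * u) * (wd c1)⁻¹⁻¹ := by group
      rw [e, h.cent _ (hu.z' x hx) _ (inv_mem hc1Q)]
      exact hu.z' x hx
    · rw [Subgroup.mem_bot.1 hx, Subgroup.mem_bot]; group
    · rw [Subgroup.mem_bot.1 hx, Subgroup.mem_bot]; group
  obtain ⟨y2, hy2, c2, hc2, z2, hz2, e2⟩ := layer h' hu' hZ hcz (fun r hr => by
    right
    obtain ⟨p, hp, c, h3, h4⟩ := h2 r hr
    refine ⟨p, hp, c, h3, 1, one_mem _, ?_⟩
    rw [mul_one, ← h4]
    have e : (u * wd c1)⁻¹ * p * (u * wd c1) = (wd c1)⁻¹ * (u⁻¹ * p * u) * (wd c1)⁻¹⁻¹ := by group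
    rw [e, h.cent _ (hu.z' p hp) _ (inv_mem hc1Q)]) hz
  rw [Subgroup.mem_bot.1 hz2, mul_one] at e2
  refine ⟨y2 * y1, mul_mem (h.le hy2) hy1, c1 ++ c2, hc1.append hc2, ?_⟩
  calc y2 * y1 * (u * q) * (y2 * y1)⁻¹ = y2 * (y1 * (u * q) * y1⁻¹) * y2⁻¹ := by group
    _ = u * wd c1 * wd c2 := by rw [e1, e2]
    _ = u * wd (c1 ++ c2) := by rw [wd_append, mul_assoc]

end

/-! ### the check -/

/-- the certificate of a word -/
structure CD where
  U : ℕ
  Ui : ℕ
  cv : List ℕ
  cz : List ℕ
  vc : List (ℕ × List ℕ × List ℕ × List ℕ)
  zc : List (ℕ × List ℕ × List ℕ)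

/-- the identity `u⁻¹ p u p⁻¹ = l` -/
def chkJ (D : CD) (l p : List ℕ) : Bool :=
  Nat.beq (evOn l oneP) (mulP D.Ui (evOn p (mulP D.U (evOn p.reverse oneP))))

def chkW (u : List ℕ) (D : CD) : Bool :=
  (su u CertB.Nl && (su D.cv CertB.Ql && su D.cz CertB.Zl)) &&
  ((Nat.beq (evOn u oneP) D.U && Nat.beq (evOn u.reverse oneP) D.Ui) &&
  ((CertB.Ql.all fun r => me r CertB.Zl || D.vc.any fun e => Nat.beq e.1 r && (su e.2.1 CertB.Ql &&
    (su e.2.2.1 D.cv && (su e.2.2.2 CertB.Zl && chkJ D (r :: (e.2.2.1 ++ e.2.2.2)) e.2.1)))) &&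
  CertB.Zl.all fun r => D.zc.any fun e => Nat.beq e.1 r && (su e.2.1 CertB.Zl &&
    (su e.2.2 D.cz && chkJ D (r :: e.2.2) e.2.1))))

theorem id_of {u l p : List ℕ} {D : CD} (hU : Nat.beq (evOn u oneP) D.U = true)
    (hUi : Nat.beq (evOn u.reverse oneP) D.Ui = true) (h : chkJ D l p = true) :
    (wd u)⁻¹ * wd p * wd u * (wd p)⁻¹ = wd l := by
  have r1 : Rp D.U (wd u) := by rw [← Nat.eq_of_beq_eq_true hU]; exact Rp.word _
  have r2 : Rp D.Ui (wd u)⁻¹ := by rw [← Nat.eq_of_beq_eq_true hUi, ← wd_reverse]; exact Rp.word _
  have h1 := Rp.word l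
  rw [Nat.eq_of_beq_eq_true h] at h1
  have h2 := r2.mul ((r1.mul (Rp.word p.reverse)).evOn p)
  rw [h1.inj h2, wd_reverse]
  group

/-- **The soundness of the check.** -/
theorem sound {u : List ℕ} {D : CD} (h : chkW u D = true) {q : GF} (hq : q ∈ Cl CertB.Ql) :
    ∃ y ∈ Cl CertB.Ql, ∃ c : List ℕ, c.Sublist (D.cv ++ D.cz) ∧ y * (wd u * q) * y⁻¹ = wd u * wd c := by
  unfold chkW at h
  rw [Bool.and_eq_true, Bool.and_eq_true, Bool.and_eq_true, Bool.and_eq_true, Bool.and_eq_true,
    Bool.and_eq_true] at h
  obtain ⟨⟨h1, h2, h3⟩, ⟨h4, h5⟩, h6, h7⟩ := h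
  have hqz := qz CertB.h1 CertB.h2 CertB.h3
  rw [List.all_eq_true] at h6 h7
  refine two hqz (nz_wd (fun a ha => nz CertB.h4 CertB.h1 ha) (sub_of_su h1)) rfl rfl
    (fun r hr => gx_mem_Cl (sub_of_su h2 r hr)) (fun r hr => gx_mem_Cl (sub_of_su h3 r hr)) ?_ ?_ hq
  · intro r hr
    have k := h6 r hr
    rw [Bool.or_eq_true] at k
    rcases k with k | k
    · left
      exact gx_mem_Cl (mem_of_me k)
    · right
      rw [List.any_eq_true] at k
      obtain ⟨e, -, k⟩ := k
      simp only [Bool.and_eq_true] at k
      obtain ⟨-, k1, k2, k3, k4⟩ := k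
      refine ⟨wd e.2.1, wd_mem_Cl (sub_of_su k1), e.2.2.1, sub_of_su k2, wd e.2.2.2, wd_mem_Cl (sub_of_su k3), ?_⟩
      rw [id_of h4 h5 k4, wd_cons, wd_append, mul_assoc]
  · intro r hr
    have k := h7 r hr
    rw [List.any_eq_true] at k
    obtain ⟨e, -, k⟩ := k
    simp only [Bool.and_eq_true] at k
    obtain ⟨-, k1, k2, k3⟩ := k
    refine ⟨wd e.2.1, wd_mem_Cl (sub_of_su k1), e.2.2, sub_of_su k2, ?_⟩
    rw [id_of h4 h5 k3, wd_cons]

/-! ### the certificates -/

def C0 : CD where
  U := 0x20000000000026000000000004800000000000100000000000020000000000007400000000000f40000000000000220000000000004000000000002a000000000013a000000000002400000000000640000000000190000000000014000000000000000020800000000008100000000040830000600000004000000000080c00000000010100000000000020000000000006000000000000a4800000000c9ac800080000521200006000156120000600000800000000000180800002000038080000200004840000000000c840000000001a1000000000000000088000000000001000000000000a800000000004e80000000000090000000000019000000000006400000000000500000000000000010000000000013000000000002400000000000080000000000010000000000003a000000000007a00000480800008000008ac8000400000000000020000080800003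
  Ui := 0x600000000000d40000000000008000000000001000000000000f400000000000c8000000000008000000000000001a000000000006400000000000180000000000090000000000007a0000000000140000000000008000000000001900000000000000018c80008000000030000000000612000000000000c0000000003008000020000001000000000001ec800080000c8400000000000183000080001210000000000006000000000000400000000000380800002000030100000000002000000000000f712000060001a1000000000010400000000000000006800000000001900000000000060000000000024000000000001e800000000005000000000000200000000000064000000000000003000000000006a00000000000040000000000008000000000007a0000000000064000000000004000000361200008000031000000400000000000020000300000003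
  cv := [33, 36]
  cz := [41]
  vc := [
    (33, [], [33], []), (34, [33, 34, 35, 38], [33], [43, 44, 47]), (35, [34, 36, 39], [33], [41, 42, 43, 44]),
    (36, [], [36], []), (37, [36, 38], [33, 36], [41, 42, 45]), (38, [35, 40], [33, 36], [43, 44]),
    (39, [33, 35, 38], [33], [43, 44, 47]), (40, [35, 38], [36], [43, 44])]
  zc := [
    (41, [], [41]), (42, [41, 47], []), (43, [42, 43, 45, 46, 47], [41]), (44, [46, 47], [41]),
    (45, [42, 43, 46, 47], [41]), (46, [43, 45, 46], []), (47, [41], [41])]

def C1 : CD where
  U := 0x2000000000006e000000000004800000000000100000000000038000000000003c00000000000bc000000000000022000000000002e000000000002a000000000013a000000000000600000000001d600000000001900000000000050000000000000000a1800000000008100000000040830000600000004000000000181c000000000101000000000000250000000005a7f0000200000025800000001df3d80008000052120000600015612000060000081000002000008180000200002818000020000004a000000000a44a000000000a500000000000000008800000000000b800000000000a800000000004e8000000000001800000000007580000000000640000000000014000000000000001000000000003700000000000240000000000008000000000001c000000000001e000000000005e000005a18000080000082d8000400000000000020000080800003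
  Ui := 0x600000000000d400000000000ec000000000001000000000000f4000000000000c000000000008000000000000007e0000000000064000000000001c00000000001d0000000000001e000000000014000000000000c000000000000d00000000000000018c80008000001e3800080000fe5a000020000000c0000000003008000020000381800000000001ec800080000c8400000000000003800000001210000000000007400000400018500000000000380800002000000180000000002000000000000075a000040001a100000000000050000000000000001f8000000000019000000000000700000000000740000000000007800000000005000000000000300000000000034000000000000003000000000006a00000000000760000000000008000000000007a0000000000006000000000004000000061a0000a000039000000400000000000020000380000003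
  cv := [33, 34]
  cz := [41]
  vc := [
    (33, [], [33], []), (34, [], [34], []), (35, [36], [33, 34], [41, 42, 43]), (36, [33, 34], [33, 34], []),
    (37, [34, 39], [], [44, 45, 47]), (38, [33, 34, 36, 38], [34], []), (39, [33, 36, 38], [], [47]),
    (40, [33, 34, 35, 38], [33], [41, 42, 43, 44])]
  zc := [
    (41, [], [41]), (42, [41, 47], []), (43, [42], []), (44, [46, 47], [41]), (45, [43, 45, 46, 47], [41]),
    (46, [42, 45, 47], [41]), (47, [41], [41])]

def C2 : CD where
  U := 0x20000000000006000000000003800000000000100000000000020000000000005400000000000d40000000000000060000000000004000000000002e000000000007e0000000000024000000000006400000000001d00000000000140000000000000000008000000000025000000000006f0000000000004000000000000c0000000000810000020000002000000000000600000000000084800000000018c8000800005a5a000020000fe5a0000200000800000000000100800002000030080000200004840000000000c84000000000121000000000000000018000000000001000000000000b800000000001f80000000000090000000000019000000000007400000000000500000000000000010000000000003000000000001c00000000000080000000000010000000000002a000000000006a000000008000080000088c8000400000000000020000080800003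
  Ui := 0x600000000000d400000000000080000000000010000000000003800000000000c0000000000008000000000000001a000000000007e00000000000180000000000090000000000007800000000001d0000000000008000000000001800000000000000018c80008000000030000000000612000000000000c00000000030080000200000010000000000006f000000000fe5a0000200000180000080001210000000000006000000000000400000000000081000002000030000000000002000000000000f600000000000a4000000000010000000000000000006800000000001f80000000000060000000000024000000000001e000000000007400000000000200000000000060000000000000003000000000006a00000000000040000000000008000000000001c0000000000060000000000004000000300000008000031100000400000000000020000301000003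
  cv := []
  cz := [41]
  vc := [
    (33, [33, 35, 38], [], [43, 44]), (34, [34, 36, 37, 38], [], [44, 45]),
    (35, [34, 35, 37, 39, 40], [], [44, 45]), (36, [33, 34, 35, 36, 38, 39], [], [43]),
    (37, [33, 34, 35, 39], [], [43, 45]), (38, [33, 36, 37, 40], [], [45]), (39, [36, 37, 38], [], [44, 45]),
    (40, [35, 36, 37], [], [43, 45])]
  zc := [
    (41, [], [41]), (42, [41, 47], []), (43, [43, 45, 46, 47], [41]), (44, [46, 47], [41]),
    (45, [43, 46, 47], [41]), (46, [42, 47], [41]), (47, [41], [41])]

def C3 : CD where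
  U := 0x20000000000076000000000004800000000000100000000000020000000000002400000000000a400000000000002a0000000000024000000000002200000000001b20000000000004000000000014400000000001100000000000040000000000000000a4800000000008100000000052930000600000004000000000180c0000200001010000000000002000000000048600000000000020800000001e9288000a00004002000060001440200006000008000000000000808000000000280800000000000400000000008040000000000810000000000000000a80000000000090000000000008800000000006c8000000000001000000000005100000000000440000000000010000000000000001000000000003b000000000002400000000000080000000000010000000000001200000000000520000048080000a000008288000600000000000020000080800001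
  Ui := 0x600000000000d40000000000008000000000001000000000000f4000000000000c000000000008000000000000001a000000000006400000000000020000000000090000000000001e0000000000140000000000001000000000000d00000000000000018c80008000000030000000000612000000000000c0000000003008000020000001000000000001ec800080000c8400000000000003800000001210000000000000020000000000400000000000380800002000000180000000002000000000000075a000040001a10000000000005000000000000000068000000000019000000000000080000000000240000000000007800000000005000000000000040000000000034000000000000003000000000006a00000000000040000000000008000000000007a0000000000006000000000004000000061a0000a000001080000600000000000020000000800001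
  cv := []
  cz := [41]
  vc := [
    (33, [34, 37, 38, 39], [], [44, 45]), (34, [34, 35, 38, 40], [], [43, 44]),
    (35, [35, 36, 37, 39, 40], [], [41, 42, 44, 45]), (36, [35, 38, 40], [], [43, 44]),
    (37, [33, 37, 38], [], [47]), (38, [34, 37, 39], [], [44, 45]), (39, [33, 35, 40], [], [43, 44, 47]),
    (40, [34, 36, 40], [], [41, 42])]
  zc := [
    (41, [], [41]), (42, [41, 47], []), (43, [42], []), (44, [46, 47], [41]), (45, [42, 45], []),
    (46, [43, 45, 46], []), (47, [41], [41])]

def C4 : CD where
  U := 0xbc00000000000c600000000000e00000000000010000000000003800000000000ea000000000000600000000000017c000000000018600000000000bc000000000006000000000001d60000000000078000000000001c000000000007e0000000000001f66f8000a00017f40000040000c1e00000800002818000020000300c0000000003800000000000a44a000000000f66f0000000017b77800080000018000008000006a00000c000001e000008000008100000200003814000000000000c000000000fe35000020000006f00000000001e380008000000005f0000000000061800000000002f00000000000180000000000075800000000001e0000000000007000000000001f80000000000005e000000000006300000000000700000000000008000000000001c0000000000075000000000000300000c60c00008000039638000400000000000020000380c00001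
  Ui := 0xd4000000000009600000000000620000000000010000000000007a000000000005c000000000005e00000000000012400000000001ae00000000001ca00000000001ea000000000015a0000000000172000000000002c0000000000026000000000000110848000a0001d8c48000a000198e48000a00003008000020000200c0000200001804000000001eede800080001bcfb800080001271200000000135930000800005ac58000400005a6580004000018140000200001018000020000101c00002000048cf800060000486a8000600000085800000000000049000000000006b8000000000072800000000007a8000000000056800000000005c800000000000b000000000000980000000000006a000000000004b00000000000310000000000008000000000003d000000000002e000000000002f0000012010000800012f928000400000000000020000080400001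
  cv := [33, 34]
  cz := [41]
  vc := [
    (33, [], [33], []), (34, [], [34], []), (35, [33, 34], [34], []), (36, [33, 35, 36], [34], [43, 44, 45, 46]),
    (37, [33], [34], [41]), (38, [37, 38], [], [41, 45, 46]), (39, [36, 37], [], [41, 45, 46]),
    (40, [34, 39], [33, 34], [41, 43, 45])]
  zc := [
    (41, [], [41]), (42, [41, 42], []), (43, [41, 47], []), (44, [41, 42, 45, 47], [41]),
    (45, [41, 42, 43, 47], [41]), (46, [45], [41]), (47, [46, 47], [41])]

def C5 : CD where
  U := 0x88000000000005400000000000aa000000000001000000000000800000000000040000000000003800000000000014a0000000000090000000000010800000000001fe000000000008000000000001d000000000001a800000000001800000000000001231200000000080010000e00016bd68000000002010000000000100800002000028140000000000400000000001210000000000102000000000005a5a0000200014280000000000ac350000200002000000000000100000000000008100000200010000000000000a400000000000520000000000000005280000000000240000000000042000000000007f80000000000200000000000074000000000006a0000000000060000000000000044000000000002a0000000000055000000000000800000000000400000000000020000000000001c00000b41000004000094000000800000000000020000301000003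
  Ui := 0x80000000000004000000000009a000000000001000000000000880000000000054000000000003a0000000000000120000000000010000000000009a00000000000540000000000090000000000005200000000001f400000000001da000000000000000020000000000411000000000010a800000000001000000000000080000000002014000020000040000000000001020000000000212000000000004a800000001339e800020000ac200000c00002010000000000100800002000008140000200012312000000000a4110000e00005ade80002000000000480000000000040000000000026800000000001500000000000240000000000014800000000007d00000000000768000000000000040000000000002000000000004d00000000000080000000000044000000000002a000000000001d00000001900004000020190000800000000000020000200800003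
  cv := [33, 35]
  cz := [42]
  vc := [
    (33, [], [33], []), (34, [33, 34, 35, 37], [33], []), (35, [], [35], []), (36, [36, 39], [], []),
    (37, [33, 34], [35], []), (38, [38, 39], [33, 35], [44]), (39, [36], [], []),
    (40, [33, 38], [33], [42, 44, 46])]
  zc := [
    (41, [41, 43, 45], []), (42, [], [42]), (43, [43, 47], []), (44, [42, 46], [42]),
    (45, [41, 42, 43, 46, 47], [42]), (46, [46], [42]), (47, [43], [])]

/-- the words with their certificates -/
def T : List (List ℕ × CD) := [
  ([5, 4, 3, 2, 1, 0], C0),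
  ([6, 4, 3, 2, 1, 0], C1),
  ([6, 5, 4, 2, 1, 0], C2),
  ([6, 5, 4, 3, 2, 1, 0], C3),
  ([4, 3, 2, 6, 1, 2, 3, 1, 2, 0, 1, 0], C4),
  ([6, 4, 2, 3, 1, 2, 6, 4, 5, 3, 4, 0, 1, 2, 3, 0, 1, 2, 0, 1, 0], C5)]

theorem T_chk : (T.all fun e => chkW (e.1.flatMap CertP.tw2) e.2) = true := by decide +kernel

theorem T_comp : (T.all fun e => Cfsg.Agent.H335.TC6.compL e.1 == e.2.cv ++ e.2.cz) = true := by decide +kernel

theorem NF_sub : (Cfsg.Agent.H335.TC6.NF.all fun w => (T.map Prod.fst).contains w) = true := by decide +kernel

theorem comp_used : (Cfsg.Agent.H335.TC6.NF.all fun w => (Cfsg.Agent.H335.TC6.compL w).all fun r => used.contains r)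
    = true := by decide +kernel

/-- **The six words without fixed vector.** -/
theorem cov6 {w : List ℕ} (hw : w ∈ Cfsg.Agent.H335.TC6.NF) {q : LL} (hq : q ∈ RG Cfsg.Agent.FourTwo.Facts2.qsP) :
    ∃ y : LL, ∃ c ∈ Cfsg.Agent.H335.TC6.comps w,
      y * (Cfsg.Agent.FourTwo.Base.wd (w.flatMap tw) * q) * y⁻¹ = Cfsg.Agent.FourTwo.Base.wd (w.flatMap tw ++ c) := by
  have h1 := (List.all_eq_true.1 NF_sub) w hw
  rw [List.contains_iff_mem, List.mem_map] at h1
  obtain ⟨e, he, rfl⟩ := h1
  have h2 := (List.all_eq_true.1 T_chk) e he
  have h3 := (List.all_eq_true.1 T_comp) e he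
  rw [beq_iff_eq] at h3
  obtain ⟨y, -, c, hc, e1⟩ := sound h2 (RG_le_Cl hq)
  rw [← h3] at hc
  refine ⟨y, c, ?_, ?_⟩
  · unfold Cfsg.Agent.H335.TC6.comps
    rw [List.mem_sublists]
    exact hc
  · have h4 := (List.all_eq_true.1 comp_used) e.1 hw
    rw [List.all_eq_true] at h4
    rw [Cfsg.Agent.FourTwo.Base.wd_append, ← wd_eq_base (w := c) fun r hr =>
      List.contains_iff_mem.1 (h4 r (hc.subset hr)), flat_eq]
    exact e1

end Cfsg.Agent.H555.TC6
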